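import Groth.Agent.H66.MatComod
import Groth.Agent.Lib.Comod.Basic
import Mathlib

/-!
A non-trivial central one-parameter subgroup of an affine group is detected by a character.
-/

set_option autoImplicit false
universe u

open TensorProduct

namespace Groth.Agent.H66.CentralChar

noncomputable section

variable {k : Type u} [Field k] {A : Type u} [CommRing A] [HopfAlgebra k A] {N : Type} [CommGroup N]

local notation "Δ" => CoalgebraStruct.comul (R := k)

theorem isGroupLike_det {ι : Type*} [Fintype ι] [DecidableEq ι] {P : Matrix ι ι A} (hP : H66.MatComod.IsMat k P) :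
    IsGroupLikeElem k P.det := by
  refine ⟨?_, ?_⟩
  · change Bialgebra.counitAlgHom k A P.det = 1
    rw [AlgHom.map_det, show (Bialgebra.counitAlgHom k A).mapMatrix P = 1 from ?_, Matrix.det_one]
    ext i j
    simp [AlgHom.mapMatrix_apply, hP.2, Matrix.one_apply]
  · change Bialgebra.comulAlgHom k A P.det = _
    rw [AlgHom.map_det, show (Bialgebra.comulAlgHom k A).mapMatrix P =
      (Algebra.TensorProduct.includeLeft (R := k) (S := k) (A := A) (B := A)).mapMatrix P *
        (Algebra.TensorProduct.includeRight (R := k) (A := A) (B := A)).mapMatrix P from ?_,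
      Matrix.det_mul, ← AlgHom.map_det, ← AlgHom.map_det]
    · simp
    · ext i j
      simp [AlgHom.mapMatrix_apply, hP.1, Matrix.mul_apply]

variable (q : A →ₐ[k] MonoidAlgebra k N)

/-- The coaction by right translation through `q`. -/
def cMap : A →ₗ[k] A ⊗[k] MonoidAlgebra k N := q.toLinearMap.lTensor A ∘ₗ Δ

theorem exists_groupLike
    (hΔ : ∀ a, Δ (q a) = TensorProduct.map q.toLinearMap q.toLinearMap (Δ a))
    (hε : ∀ a, CoalgebraStruct.counit (R := k) (q a) = CoalgebraStruct.counit (R := k) a)
    (hc : ∀ a, q.toLinearMap.lTensor A (Δ a) = TensorProduct.comm k _ _ (q.toLinearMap.rTensor A (Δ a)))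
    (hnt : ∃ a, q a ≠ algebraMap k _ (CoalgebraStruct.counit (R := k) a)) :
    ∃ (D : A) (n : N) (d : ℕ), IsGroupLikeElem k D ∧ n ≠ 1 ∧ 0 < d ∧ q D = MonoidAlgebra.single (n ^ d) 1 := by
  classical
  let e := TensorProduct.equivFinsuppOfBasisRight (MonoidAlgebra.basis N k) (M := A)
  let W : N → Submodule k A := fun n =>
    LinearMap.eqLocus (cMap q) ((TensorProduct.mk k A (MonoidAlgebra k N)).flip (MonoidAlgebra.single n 1))
  have hW : ∀ {n a}, a ∈ W n ↔ cMap q a = a ⊗ₜ[k] MonoidAlgebra.single n (1 : k) := fun {n a} => Iff.rfl
  have hsum : ∀ a, cMap q a = (e (cMap q a)).sum fun m x => x ⊗ₜ[k] MonoidAlgebra.single m (1 : k) := by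
    intro a
    conv_lhs => rw [← e.symm_apply_apply (cMap q a)]
    rw [TensorProduct.equivFinsuppOfBasisRight_symm_apply]
    simp [MonoidAlgebra.basis_apply]
  -- the components are homogeneous
  have hco : ∀ a, TensorProduct.assoc k _ _ _ ((cMap q).rTensor _ (cMap q a)) =
      (CoalgebraStruct.comul (R := k) (A := MonoidAlgebra k N)).lTensor A (cMap q a) := by
    intro a
    have h1 : (CoalgebraStruct.comul (R := k) (A := MonoidAlgebra k N)).lTensor A (cMap q a) =
        ((TensorProduct.map q.toLinearMap q.toLinearMap).lTensor A) ((Δ).lTensor A (Δ a)) := by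
      simp only [cMap, LinearMap.comp_apply]
      rw [← LinearMap.lTensor_comp_apply, ← LinearMap.lTensor_comp_apply]
      exact LinearMap.congr_fun (congrArg (LinearMap.lTensor A) (LinearMap.ext fun x => hΔ x)) (Δ a)
    rw [h1, ← Coalgebra.coassoc_apply]
    simp only [cMap, LinearMap.comp_apply]
    generalize Δ a = z
    induction z using TensorProduct.induction_on with
    | zero => simp
    | add p r hp hr => simp only [map_add, hp, hr]
    | tmul x y =>
      simp only [LinearMap.lTensor_tmul, LinearMap.rTensor_tmul, LinearMap.comp_apply]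
      generalize Δ x = z
      induction z using TensorProduct.induction_on with
      | zero => simp
      | add p r hp hr => simp only [map_add, TensorProduct.add_tmul, hp, hr]
      | tmul x₁ x₂ => simp
  have hcomp : ∀ a m, e (cMap q a) m ∈ W m := by
    intro a m
    let f := e (cMap q a)
    let κ : MonoidAlgebra k N →ₗ[k] k := (MonoidAlgebra.basis N k).coord m
    have hκ : ∀ x, κ (MonoidAlgebra.single x (1 : k)) = if x = m then 1 else 0 := fun x => by
      simp [κ, ← MonoidAlgebra.basis_apply, Finsupp.single_apply]
    let C : A ⊗[k] (MonoidAlgebra k N ⊗[k] MonoidAlgebra k N) →ₗ[k] A ⊗[k] MonoidAlgebra k N :=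
      ((TensorProduct.rid k _).toLinearMap ∘ₗ κ.lTensor _).lTensor A
    have h := congrArg C (hco a)
    have hL : C (TensorProduct.assoc k _ _ _ ((cMap q).rTensor _ (cMap q a))) = cMap q (f m) := by
      conv_lhs => enter [2, 2, 2]; rw [hsum a]
      simp only [Finsupp.sum, map_sum, LinearMap.rTensor_tmul]
      rw [Finset.sum_eq_single m]
      · generalize cMap q (e (cMap q a) m) = z at *
        induction z using TensorProduct.induction_on with
        | zero => simp
        | add p r hp hr => simp only [TensorProduct.add_tmul, map_add, hp, hr]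
        | tmul x y => simp [C, hκ]
      · intro x _ hx
        generalize cMap q (e (cMap q a) x) = z at *
        induction z using TensorProduct.induction_on with
        | zero => simp
        | add p r hp hr => simp only [TensorProduct.add_tmul, map_add, hp, hr, add_zero]
        | tmul x' y => simp [C, hκ, hx]
      · intro hm
        rw [Finsupp.notMem_support_iff.1 hm]
        simp
    have hR : C ((CoalgebraStruct.comul (R := k) (A := MonoidAlgebra k N)).lTensor A (cMap q a)) =
        f m ⊗ₜ[k] MonoidAlgebra.single m (1 : k) := by
      conv_lhs => enter [2, 2]; rw [hsum a]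
      simp only [Finsupp.sum, map_sum, LinearMap.lTensor_tmul,
        (MonoidAlgebra.isGroupLikeElem_single_one (R := k) _).comul_eq_tmul_self]
      rw [Finset.sum_eq_single m]
      · simp [C, hκ, f]
      · intro x _ hx; simp [C, hκ, hx]
      · intro hm; simp [Finsupp.notMem_support_iff.1 hm]
    rw [hW]
    rwa [hL, hR] at h
  let εA := CoalgebraStruct.counit (R := k) (A := A)
  have hqε : ∀ a, q a = TensorProduct.lid k _ (εA.rTensor _ (cMap q a)) := by
    intro a
    have h := congrArg (fun z => TensorProduct.lid k _ z) (congrArg (q.toLinearMap.lTensor k)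
      (Coalgebra.rTensor_counit_comul (R := k) a))
    simp only [LinearMap.lTensor_tmul, TensorProduct.lid_tmul, one_smul] at h
    refine h.symm.trans ?_
    simp only [cMap, LinearMap.comp_apply, εA]
    generalize Δ a = z
    induction z using TensorProduct.induction_on with
    | zero => simp
    | add p r hp hr => simp only [map_add, hp, hr]
    | tmul x y => simp
  -- a non-trivial weight
  obtain ⟨n, w, hn, hw, hw0⟩ : ∃ (n : N) (w : A), n ≠ 1 ∧ w ∈ W n ∧ εA w ≠ 0 := by
    by_contra! hall
    obtain ⟨a, ha⟩ := hnt
    have h1 : q a = εA (e (cMap q a) 1) • (1 : MonoidAlgebra k N) := by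
      rw [hqε a]
      conv_lhs => rw [hsum a]
      simp only [Finsupp.sum, map_sum, LinearMap.rTensor_tmul, TensorProduct.lid_tmul]
      rw [Finset.sum_eq_single (1 : N), MonoidAlgebra.one_def]
      · intro x _ hx
        rw [hall x _ hx (hcomp a x), zero_smul]
      · intro hm
        rw [Finsupp.notMem_support_iff.1 hm, map_zero, zero_smul]
    refine ha ?_
    have h2 := hε a
    rw [h1, map_smul, Bialgebra.counit_one, smul_eq_mul, mul_one] at h2
    rw [h1, h2, Algebra.algebraMap_eq_smul_one]
  have hsub : HopfRep.IsSubcomod (k := k) (A := A) (W n) := by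
    refine (Lib.Comod.Basic.isSubcomod_iff _).2 fun φ x hx => ?_
    rw [hW] at hx ⊢
    have hc' : ((TensorProduct.rid k _).toLinearMap ∘ₗ TensorProduct.map q.toLinearMap φ ∘ₗ Δ :
        A →ₗ[k] MonoidAlgebra k N) =
        (TensorProduct.lid k _).toLinearMap ∘ₗ TensorProduct.map φ q.toLinearMap ∘ₗ Δ := by
      refine LinearMap.ext fun b => ?_
      have h := congrArg (fun z => TensorProduct.lid k _ (φ.rTensor _ z)) (hc b)
      simp only [LinearMap.comp_apply, LinearEquiv.coe_coe]
      refine Eq.trans ?_ (Eq.trans h.symm ?_)
      · generalize Δ b = z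
        induction z using TensorProduct.induction_on with
        | zero => simp
        | add p r hp hr => simp only [map_add, hp, hr]
        | tmul u v => simp
      · generalize Δ b = z
        induction z using TensorProduct.induction_on with
        | zero => simp
        | add p r hp hr => simp only [map_add, hp, hr]
        | tmul u v => simp
    let g : A →ₗ[k] A := Lib.Comod.Basic.dact A φ
    have hg : ∀ b, g b = TensorProduct.rid k A (φ.lTensor A (Δ b)) := fun b => by
      simp only [g, Lib.Comod.Basic.dact_apply, HopfRep.Comod.coact]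
      generalize Δ b = z
      induction z using TensorProduct.induction_on with
      | zero => simp
      | add p r hp hr => simp only [map_add, hp, hr]
      | tmul u v => simp
    have key : ∀ a, cMap q (g a) = g.rTensor _ (cMap q a) := by
      intro a
      have hL : cMap q (g a) =
          LinearMap.lTensor A ((TensorProduct.rid k _).toLinearMap ∘ₗ TensorProduct.map q.toLinearMap φ ∘ₗ Δ) (Δ a) := by
        rw [LinearMap.lTensor_comp_apply, LinearMap.lTensor_comp_apply, ← Coalgebra.coassoc_apply, hg]
        simp only [cMap, LinearMap.comp_apply]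
        generalize Δ a = z
        induction z using TensorProduct.induction_on with
        | zero => simp
        | add p r hp hr => simp only [map_add, hp, hr]
        | tmul u v =>
          simp only [LinearMap.lTensor_tmul, TensorProduct.rid_tmul, map_smul, LinearMap.rTensor_tmul]
          generalize Δ u = z
          induction z using TensorProduct.induction_on with
          | zero => simp
          | add p r hp hr => simp only [map_add, smul_add, TensorProduct.add_tmul, hp, hr]
          | tmul u₁ u₂ => simp [TensorProduct.tmul_smul]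
      have hR : g.rTensor _ (cMap q a) =
          LinearMap.lTensor A ((TensorProduct.lid k _).toLinearMap ∘ₗ TensorProduct.map φ q.toLinearMap ∘ₗ Δ) (Δ a) := by
        rw [LinearMap.lTensor_comp_apply, LinearMap.lTensor_comp_apply, ← Coalgebra.coassoc_apply]
        simp only [cMap, LinearMap.comp_apply]
        generalize Δ a = z
        induction z using TensorProduct.induction_on with
        | zero => simp
        | add p r hp hr => simp only [map_add, hp, hr]
        | tmul u v =>
          simp only [LinearMap.lTensor_tmul, LinearMap.rTensor_tmul, hg]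
          generalize Δ u = z
          induction z using TensorProduct.induction_on with
          | zero => simp
          | add p r hp hr => simp only [map_add, TensorProduct.add_tmul, hp, hr]
          | tmul u₁ u₂ => simp [TensorProduct.tmul_smul, TensorProduct.smul_tmul']
      rw [hL, hR, hc']
    show cMap q (g x) = g x ⊗ₜ[k] _
    rw [key, hx, LinearMap.rTensor_tmul]
  obtain ⟨V, hVfg, hV, hVle, hwV⟩ := Lib.Comod.Basic.exists_subcomod_fg_le hsub {w} (by simpa using hw)
  haveI : Module.Finite k V := Module.Finite.iff_fg.2 hVfg
  letI cV := Lib.Comod.Basic.subComod V hV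
  let b := Module.finBasis k V
  have hd : 0 < Module.finrank k V := by
    haveI : Nontrivial V := ⟨⟨w, hwV (by simp)⟩, 0, fun h => hw0 (by
      rw [show w = 0 from congrArg Subtype.val h, map_zero])⟩
    exact Module.finrank_pos
  let P := H66.MatComod.ofBasis (A := A) b
  have hqP : ∀ i j, q (P i j) = if i = j then MonoidAlgebra.single n 1 else 0 := by
    intro i j
    have h0 := congrArg (fun z => V.subtype.rTensor A z) (H66.MatComod.coact_basis (A := A) b j)
    have h1 : Δ (b j : A) = ∑ l, (b l : A) ⊗ₜ[k] P l j := by
      rw [map_sum] at h0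
      simp only [LinearMap.rTensor_tmul] at h0
      rw [← LinearMap.comp_apply] at h0
      refine Eq.trans ?_ h0
      exact (LinearMap.congr_fun (Lib.Comod.Basic.subCoact_spec V hV) (b j)).symm
    have h2 : cMap q (b j : A) = (b j : A) ⊗ₜ[k] MonoidAlgebra.single n (1 : k) := hW.1 (hVle (b j).2)
    simp only [cMap, LinearMap.comp_apply, h1, map_sum, LinearMap.lTensor_tmul] at h2
    have h3 : (∑ l, b l ⊗ₜ[k] q (P l j)) = b j ⊗ₜ[k] MonoidAlgebra.single n (1 : k) :=
      Module.Flat.rTensor_preserves_injective_linearMap (M := MonoidAlgebra k N) V.subtype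
        V.injective_subtype (by simpa using h2)
    have h4 := congrArg (fun z => TensorProduct.lid k _ ((b.coord i).rTensor _ z)) h3
    simp only [map_sum, LinearMap.rTensor_tmul, TensorProduct.lid_tmul, Module.Basis.coord_apply,
      Module.Basis.repr_self, Finsupp.single_apply, ite_smul, one_smul, zero_smul] at h4
    rw [Finset.sum_ite_eq' Finset.univ i fun l => q (P l j), if_pos (Finset.mem_univ i)] at h4
    rw [h4]
    rcases eq_or_ne i j with rfl | hij
    · simp
    · rw [if_neg hij, if_neg hij.symm]
  refine ⟨P.det, n, Module.finrank k V, isGroupLike_det (H66.MatComod.isMat_ofBasis b), hn, hd, ?_⟩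
  rw [AlgHom.map_det, show q.mapMatrix P = Matrix.diagonal fun _ => MonoidAlgebra.single n (1 : k) from ?_,
    Matrix.det_diagonal, Finset.prod_const, Finset.card_fin, MonoidAlgebra.single_pow, one_pow]
  ext i j
  simp [AlgHom.mapMatrix_apply, hqP, Matrix.diagonal_apply]

end

end Groth.Agent.H66.CentralChar
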