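import Groth.Agent.H66.CentralChar.Alg
import Groth.Agent.H1.Hopf
import Groth.Agent.Lib.RedPts.Gm
import Groth.Agent.Lib.DiagGL.Points
import Groth.Prelude.Def_Red

/-!
The character of an affine group detecting a central multiplicative subgroup.
-/

set_option autoImplicit false
set_option linter.style.haveILetI false
universe u

open CategoryTheory MonoidalCategory CartesianMonoidalCategory AlgebraicGeometry
open scoped MonObj GrpObj
open TensorProduct WithConv
open Groth.Agent.Lib.RedPts

namespace Groth.Agent.H66.CentralChar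

noncomputable section

attribute [local instance] Points.baseAlgebra

variable {k : Type u} [Field k]

local notation "Gmk" => Red.Gm (Spec (CommRingCat.of k))

abbrev sp (R : Type u) [CommRing R] [Algebra k R] : Over (Spec (CommRingCat.of k)) :=
  (Spec (CommRingCat.of R)).asOver (Spec (CommRingCat.of k))

/-- An element as a function on the spectrum. -/
def fn (k : Type u) [Field k] (R : Type u) [CommRing R] [Algebra k R] : R →+* Γ((sp (k := k) R).left, ⊤) :=
  (Scheme.ΓSpecIso (CommRingCat.of R)).inv.hom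

/-- The point of the multiplicative group defined by a unit. -/
def gm {R : Type u} [CommRing R] [Algebra k R] (r : Rˣ) : sp (k := k) R ⟶ Red.Gm (Spec (CommRingCat.of k)) :=
  Gm.gmPt (Units.map (fn k R).toMonoidHom r)

theorem gmFn_gm {R : Type u} [CommRing R] [Algebra k R] (r : Rˣ) :
    Red.gmFn (gm (k := k) r) = fn k R r := Gm.gmFn_gmPt _

theorem appTop_fn {R R' : Type u} [CommRing R] [Algebra k R] [CommRing R'] [Algebra k R']
    (h : sp (k := k) R' ⟶ sp (k := k) R) (f : R →+* R') (hh : h.left = Spec.map (CommRingCat.ofHom f)) (r : R) :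
    h.left.appTop (fn k R r) = fn k R' (f r) := by
  rw [hh]
  exact congr($((Scheme.ΓSpecIso_inv_naturality (CommRingCat.ofHom f)).symm) r)

variable {A : Type u} [CommRing A] [HopfAlgebra k A]

theorem algHomOf_mapMulEquiv {T : Type u} [CommRing T] [Algebra k T] (x : WithConv (A →ₐ[k] T)) (a : A) :
    Points.algHomOf (Spec.mapMulEquiv (R := k) (S := A) (T := T) x) a = fn k T (x.ofConv a) := by
  rw [Points.algHomOf_apply, Points.ringHomOf_apply]
  exact appTop_fn (k := k) (R := A) (R' := T) (Spec.mapMulEquiv (R := k) (S := A) (T := T) x) x.ofConv.toRingHom rfl a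

theorem exists_char_sp (i : Red.Gm (Spec (CommRingCat.of k)) ⟶ sp (k := k) A) [IsMonHom i] [Mono i]
    (hcent : ∀ (T : Over (Spec (CommRingCat.of k))) (t : T ⟶ Red.Gm (Spec (CommRingCat.of k))) (g : T ⟶ sp (k := k) A),
      (t ≫ i) * g = g * (t ≫ i)) :
    ∃ (χ : sp (k := k) A ⟶ Red.Gm (Spec (CommRingCat.of k))) (N : ℕ), IsMonHom χ ∧ 1 ≤ N ∧
      ∀ (T : Over (Spec (CommRingCat.of k))) (t : T ⟶ Red.Gm (Spec (CommRingCat.of k))), (t ≫ i) ≫ χ = t ^ N := by
  classical
  let Z := Multiplicative ℤ
  let L := MonoidAlgebra k Z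
  let F : ∀ (R : Type u) [CommRing R] [Algebra k R], Rˣ → WithConv (A →ₐ[k] R) := fun R _ _ r =>
    (Spec.mapMulEquiv (R := k) (S := A) (T := R)).symm (gm (k := k) r ≫ i)
  have hFi : ∀ {R : Type u} [CommRing R] [Algebra k R] (r : Rˣ),
      Spec.mapMulEquiv (F R r) = gm (k := k) r ≫ i := fun r => MulEquiv.apply_symm_apply _ _
  have hFmul : ∀ {R : Type u} [CommRing R] [Algebra k R] (r s : Rˣ), F R (r * s) = F R r * F R s := by
    intro R _ _ r s
    apply (Spec.mapMulEquiv (R := k) (S := A) (T := R)).injective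
    rw [map_mul, hFi, hFi, hFi, ← MonObj.mul_comp _ _ i]
    congr 1
    refine Gm.gmFn_injective ?_
    rw [Gm.gmFn_mul, gmFn_gm, gmFn_gm, gmFn_gm, Units.val_mul, map_mul]
  have hFone : ∀ (R : Type u) [CommRing R] [Algebra k R], F R 1 = 1 := by
    intro R _ _
    apply (Spec.mapMulEquiv (R := k) (S := A) (T := R)).injective
    rw [map_one, hFi, ← MonObj.one_comp i]
    congr 1
    refine Gm.gmFn_injective ?_
    rw [gmFn_gm, Gm.gmFn_one, Units.val_one, map_one]
  have hFnat : ∀ {R R' : Type u} [CommRing R] [Algebra k R] [CommRing R'] [Algebra k R'] (f : R →ₐ[k] R') (r : Rˣ),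
      toConv (f.comp (F R r).ofConv) = F R' (Units.map (f : R →* R') r) := by
    intro R R' _ _ _ _ f r
    apply (Spec.mapMulEquiv (R := k) (S := A) (T := R')).injective
    rw [hFi]
    let h : sp (k := k) R' ⟶ sp (k := k) R := (Spec.map (CommRingCat.ofHom f.toRingHom)).asOver _
    have h1 : Spec.mapMulEquiv (toConv (f.comp (F R r).ofConv)) = h ≫ Spec.mapMulEquiv (F R r) := by
      ext1
      change Spec.map _ = Spec.map _ ≫ Spec.map _
      rw [← Spec.map_comp]
      rfl
    rw [h1, hFi, ← Category.assoc]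
    congr 1
    refine Gm.gmFn_injective ?_
    rw [Gm.gmFn_comp, gmFn_gm, gmFn_gm]
    exact appTop_fn h f.toRingHom rfl _
  let τ : Lˣ := Units.map (MonoidAlgebra.of k Z) (toUnits (Multiplicative.ofAdd (1 : ℤ)))
  have hτ : (τ : L) = MonoidAlgebra.single (Multiplicative.ofAdd (1 : ℤ)) 1 := rfl
  let q : A →ₐ[k] L := (F L τ).ofConv
  have hgl : IsGroupLikeElem k (τ : L) := MonoidAlgebra.isGroupLikeElem_single_one _
  have hΔ : ∀ a, CoalgebraStruct.comul (R := k) (q a) =
      TensorProduct.map q.toLinearMap q.toLinearMap (CoalgebraStruct.comul (R := k) a) := by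
    intro a
    have h1 := hFnat (Bialgebra.comulAlgHom k L) τ
    have h2 : Units.map ((Bialgebra.comulAlgHom k L : L →ₐ[k] L ⊗[k] L) : L →* L ⊗[k] L) τ =
        Units.map ((Algebra.TensorProduct.includeLeft : L →ₐ[k] L ⊗[k] L) : L →* L ⊗[k] L) τ *
          Units.map ((Algebra.TensorProduct.includeRight : L →ₐ[k] L ⊗[k] L) : L →* L ⊗[k] L) τ := by
      ext
      simp only [Units.coe_map, Units.val_mul, MonoidHom.coe_coe, Algebra.TensorProduct.includeLeft_apply,
        Algebra.TensorProduct.includeRight_apply, Algebra.TensorProduct.tmul_mul_tmul, mul_one, one_mul]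
      simpa using hgl.comul_eq_tmul_self
    rw [h2, hFmul, ← hFnat, ← hFnat] at h1
    have h3 := congrArg (fun x : WithConv (A →ₐ[k] L ⊗[k] L) => x.ofConv a) h1
    refine h3.trans ((AlgHom.convMul_apply _ _ a).trans ?_)
    generalize CoalgebraStruct.comul (R := k) a = z
    induction z using TensorProduct.induction_on with
    | zero => simp
    | add p r hp hr => simp only [map_add, hp, hr]
    | tmul x y => simp [q]
  have hε : ∀ a, CoalgebraStruct.counit (R := k) (q a) = CoalgebraStruct.counit (R := k) a := by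
    intro a
    have h1 := hFnat (Bialgebra.counitAlgHom k L) τ
    have h2 : Units.map ((Bialgebra.counitAlgHom k L : L →ₐ[k] k) : L →* k) τ = 1 := by
      ext
      exact hgl.counit_eq_one
    rw [h2, hFone] at h1
    have h3 := congrArg (fun x : WithConv (A →ₐ[k] k) => x.ofConv a) h1
    simpa [q] using h3
  have hc : ∀ a, q.toLinearMap.lTensor A (CoalgebraStruct.comul (R := k) a) =
      TensorProduct.comm k _ _ (q.toLinearMap.rTensor A (CoalgebraStruct.comul (R := k) a)) := by
    intro a
    let iA : WithConv (A →ₐ[k] A ⊗[k] L) := toConv Algebra.TensorProduct.includeLeft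
    let iq : WithConv (A →ₐ[k] A ⊗[k] L) := toConv ((Algebra.TensorProduct.includeRight).comp q)
    have h1 : iq * iA = iA * iq := by
      apply (Spec.mapMulEquiv (R := k) (S := A) (T := A ⊗[k] L)).injective
      rw [map_mul, map_mul]
      have h2 : iq = F (A ⊗[k] L)
          (Units.map ((Algebra.TensorProduct.includeRight : L →ₐ[k] A ⊗[k] L) : L →* A ⊗[k] L) τ) :=
        hFnat _ _
      rw [h2, hFi]
      exact hcent _ _ _
    have h3 := congrArg (fun x : WithConv (A →ₐ[k] A ⊗[k] L) => x.ofConv a) h1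
    refine Eq.trans ?_ (Eq.trans (((AlgHom.convMul_apply iA iq a).symm.trans h3.symm).trans
      (AlgHom.convMul_apply iq iA a)) ?_)
    · generalize CoalgebraStruct.comul (R := k) a = z
      induction z using TensorProduct.induction_on with
      | zero => simp
      | add p r hp hr => simp only [map_add, hp, hr]
      | tmul x y => simp [iA, iq]
    · generalize CoalgebraStruct.comul (R := k) a = z
      induction z using TensorProduct.induction_on with
      | zero => simp
      | add p r hp hr => simp only [map_add, hp, hr]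
      | tmul x y => simp [iA, iq]
  have hnt : ∃ a, q a ≠ algebraMap k L (CoalgebraStruct.counit (R := k) a) := by
    by_contra! hall
    have hq : F L τ = 1 := WithConv.ofConv_injective (AlgHom.ext fun a => (hall a).trans (AlgHom.convOne_apply a).symm)
    rw [← hFone L] at hq
    have h2 : gm (k := k) τ = gm (k := k) (1 : Lˣ) := by
      rw [← cancel_mono i, ← hFi, ← hFi, hq]
    have h3 := congrArg Red.gmFn h2
    rw [gmFn_gm, gmFn_gm] at h3
    have h4 : (τ : L) = 1 := by
      have hinj : Function.Injective (fn k L) :=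
        ((Scheme.ΓSpecIso (CommRingCat.of L)).symm.commRingCatIsoToRingEquiv).injective
      refine hinj (h3.trans ?_)
      rw [Units.val_one]
    rw [hτ, MonoidAlgebra.one_def] at h4
    have h5 := (Finsupp.single_left_inj (one_ne_zero (α := k))).1 (congrArg MonoidAlgebra.coeff h4)
    exact one_ne_zero (α := ℤ) (congrArg Multiplicative.toAdd h5)
  obtain ⟨D, n, d, hD, hn, hd, hqD⟩ := exists_groupLike q hΔ hε hc hnt
  -- positive exponent
  obtain ⟨E, N, hE, hN, hqE⟩ : ∃ (E : A) (N : ℕ), IsGroupLikeElem k E ∧ 1 ≤ N ∧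
      q E = (τ : L) ^ N := by
    have hn0 : n.toAdd ≠ 0 := fun h => hn (by rw [← ofAdd_toAdd n, h, ofAdd_zero])
    have hm0 : n.toAdd * (d : ℤ) ≠ 0 := mul_ne_zero hn0 (by omega)
    have hpow : (n ^ d : Z).toAdd = n.toAdd * (d : ℤ) := by rw [toAdd_pow, nsmul_eq_mul]; exact mul_comm _ _
    have hτN : ∀ N : ℕ, (τ : L) ^ N = MonoidAlgebra.single (Multiplicative.ofAdd (N : ℤ)) 1 := by
      intro N
      rw [hτ, MonoidAlgebra.single_pow, one_pow, ← ofAdd_nsmul]
      simp
    rcases lt_or_gt_of_ne hm0 with hneg | hpos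
    · refine ⟨HopfAlgebraStruct.antipode (R := k) D, (n.toAdd * (d : ℤ)).natAbs, hD.antipode, by omega, ?_⟩
      have hu : q D * q (HopfAlgebraStruct.antipode (R := k) D) = 1 := by
        rw [← map_mul, show D * HopfAlgebraStruct.antipode (R := k) D = 1 from ?_, map_one]
        have h := HopfAlgebra.mul_antipode_lTensor_comul_apply (R := k) D
        rwa [hD.comul_eq_tmul_self, hD.counit_eq_one, map_one, LinearMap.lTensor_tmul, LinearMap.mul'_apply] at h
      rw [hqD] at hu
      calc q (HopfAlgebraStruct.antipode (R := k) D)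
          = (MonoidAlgebra.single (n ^ d)⁻¹ (1 : k) * MonoidAlgebra.single (n ^ d) 1) *
              q (HopfAlgebraStruct.antipode (R := k) D) := by
            rw [MonoidAlgebra.single_mul_single, inv_mul_cancel, mul_one, ← MonoidAlgebra.one_def, one_mul]
        _ = MonoidAlgebra.single (n ^ d)⁻¹ (1 : k) := by rw [mul_assoc, hu, mul_one]
        _ = _ := by
          rw [hτN]
          congr 1
          apply Multiplicative.toAdd.injective
          rw [toAdd_inv, hpow, toAdd_ofAdd]
          omega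
    · refine ⟨D, (n.toAdd * (d : ℤ)).natAbs, hD, by omega, ?_⟩
      rw [hqD, hτN]
      congr 1
      apply Multiplicative.toAdd.injective
      rw [hpow, toAdd_ofAdd]
      omega
  have hEu : IsUnit E := by
    have h := HopfAlgebra.mul_antipode_lTensor_comul_apply (R := k) E
    rw [hE.comul_eq_tmul_self, hE.counit_eq_one, map_one, LinearMap.lTensor_tmul, LinearMap.mul'_apply] at h
    exact IsUnit.of_mul_eq_one _ h
  let χ : sp (k := k) A ⟶ Red.Gm (Spec (CommRingCat.of k)) := gm (k := k) hEu.unit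
  have hχ : ∀ {W : Over (Spec (CommRingCat.of k))} (x : W ⟶ sp (k := k) A),
      Red.gmFn (x ≫ χ) = Points.algHomOf x E := by
    intro W x
    rw [Gm.gmFn_comp, gmFn_gm]
    rfl
  have hmon : IsMonHom χ := by
    refine Lib.DiagGL.isMonHom_of_mul χ ?_ fun T a b => ?_
    · refine Gm.gmFn_injective ?_
      rw [hχ, Points.algHomOf_one, hE.counit_eq_one, map_one, Gm.gmFn_one]
    · refine Gm.gmFn_injective ?_
      rw [hχ, Gm.gmFn_mul, hχ, hχ, Points.algHomOf_mul, hE.comul_eq_tmul_self,
        Algebra.TensorProduct.lift_tmul]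
  refine ⟨χ, N, hmon, hN, fun T t => ?_⟩
  let χ₀ : Multiplicative ℤ →* Γ(T.left, ⊤) :=
    (Units.coeHom _).comp (zpowersHom _ (Gm.isUnit_gmFn t).unit)
  let h : T ⟶ sp (k := k) L := Points.pointOf (MonoidAlgebra.lift k Γ(T.left, ⊤) Z χ₀)
  have ht : t = h ≫ gm (k := k) τ := by
    refine Gm.gmFn_injective ?_
    rw [Gm.gmFn_comp, gmFn_gm]
    show _ = Points.algHomOf h (τ : L)
    rw [Points.algHomOf_pointOf, hτ, MonoidAlgebra.lift_single, one_smul]
    show _ = ((zpowersHom _ (Gm.isUnit_gmFn t).unit (Multiplicative.ofAdd (1 : ℤ)) : Γ(T.left, ⊤)ˣ) : Γ(T.left, ⊤))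
    rw [show zpowersHom _ (Gm.isUnit_gmFn t).unit (Multiplicative.ofAdd (1 : ℤ)) = (Gm.isUnit_gmFn t).unit ^ (1 : ℤ) from rfl,
      zpow_one, IsUnit.unit_spec]
  rw [ht, Category.assoc, Category.assoc, ← MonObj.comp_pow]
  congr 1
  refine Gm.gmFn_injective ?_
  rw [← Category.assoc, hχ, ← hFi, algHomOf_mapMulEquiv, Gm.gmFn_pow, gmFn_gm, ← map_pow]
  exact congrArg (fn k L) hqE

theorem exists_char (E : Over (Spec (CommRingCat.of k))) [GrpObj E] [IsAffine E.left]
    (i : Red.Gm (Spec (CommRingCat.of k)) ⟶ E) [IsMonHom i] [IsClosedImmersion i.left]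
    (hcent : ∀ (T : Over (Spec (CommRingCat.of k))) (t : T ⟶ Red.Gm (Spec (CommRingCat.of k))) (g : T ⟶ E),
      (t ≫ i) * g = g * (t ≫ i)) :
    ∃ (χ : E ⟶ Red.Gm (Spec (CommRingCat.of k))) (N : ℕ), IsMonHom χ ∧ 1 ≤ N ∧
      ∀ (T : Over (Spec (CommRingCat.of k))) (t : T ⟶ Red.Gm (Spec (CommRingCat.of k))), (t ≫ i) ≫ χ = t ^ N := by
  obtain ⟨A, _, _, e, he⟩ := H1.Hopf.exists_iso E
  haveI := he
  haveI : Mono i := (Over.forget _).mono_of_mono_map (inferInstanceAs (Mono i.left))
  obtain ⟨χ, N, hχ, hN, h⟩ := exists_char_sp (A := A) (i ≫ e.hom) (fun T t g => by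
    have h1 := congrArg (· ≫ e.hom) (hcent T t (g ≫ e.inv))
    simpa [MonObj.mul_comp, Category.assoc] using h1)
  haveI := hχ
  exact ⟨e.hom ≫ χ, N, inferInstance, hN, fun T t => by rw [← h T t]; simp [Category.assoc]⟩

end

end Groth.Agent.H66.CentralChar
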